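import Groth.Agent.H16Derived.ProjFormula.Main
import Groth.Agent.H16Derived.ProjFormula.DMap
import Groth.Agent.H16Derived.KFlat.GammaDerived
import Groth.Agent.H16Derived.KFlat.LpullLocal
import Groth.Agent.H16Derived.Dual.Assoc
import Groth.Agent.H16Derived.Dual.Symm

/-!
# Symmetry of integral transforms under global sections
-/

set_option autoImplicit false
set_option linter.style.haveILetI false
set_option backward.isDefEq.respectTransparency false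

universe u

open CategoryTheory CategoryTheory.Limits AlgebraicGeometry

attribute [local instance] HasDerivedCategory.standard

namespace Groth.Agent.H16Derived.FMKSymm

open Groth.Agent.H16Derived.KFlat Groth.Agent.H16Derived.KFlat.Stalk
open Groth.Agent.H16Derived.ProjFormula

variable {X Z : Scheme.{u}}

/-- `RΓ(X, Rf_* M ⊗^L E) ≅ RΓ(Z, M ⊗^L Lf^* E)` for perfect `E`. -/
theorem nonempty_gamma_proj (f : Z ⟶ X) [DCoh.HasRpush f] [DCoh.HasLpull f] [DCoh.HasRΓ X] [DCoh.HasRΓ Z]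
    (E : CochainComplex X.Modules ℤ) (hE : DCoh.IsPerfect (DCoh.toD X E)) [DCoh.HasLTensorCx E]
    (M : DCoh.D Z) :
    Nonempty ((DCoh.RΓ X).obj ((DCoh.LTensorCx E).obj ((DCoh.Rpush f).obj M)) ≅
      (DCoh.RΓ Z).obj (((Dual.T Z).obj M).obj ((DCoh.Lpull f).obj (DCoh.toD X E)))) := by
  obtain ⟨P, hP, ⟨e⟩⟩ := exists_kflat_rep (DCoh.toD X E)
  haveI := hasLTensorCx P
  haveI := hasLTensorCx ((pullCx f).obj P)
  obtain ⟨w⟩ := nonempty_projection_formula (f := f) P ((isKFlat_iff' P).2 hP)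
    (isPerfect_of_iso e.symm hE) M
  obtain ⟨g⟩ := GammaAcyclic.nonempty_rpush_RΓ_iso f
  haveI := isIso_lam₀ f P hP
  refine ⟨(DCoh.RΓ X).mapIso ((Dual.ltensorCxIsoT E).symm.app _ ≪≫
    ((Dual.T X).obj _).mapIso e.symm ≪≫ (Dual.ltensorCxIsoT P).app _ ≪≫ w) ≪≫ g.app _ ≪≫
    (DCoh.RΓ Z).mapIso ((Dual.ltensorCxIsoT ((pullCx f).obj P)).symm.app M ≪≫
      ((Dual.T Z).obj M).mapIso ((asIso ((lam₀ f).app P)).symm ≪≫ (DCoh.Lpull f).mapIso e))⟩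

/-- `(a ⊗ b) ⊗ c ≅ (c ⊗ b) ⊗ a`. -/
noncomputable def swap₃ (a b c : DCoh.D Z) :
    ((Dual.T Z).obj (((Dual.T Z).obj a).obj b)).obj c ≅ ((Dual.T Z).obj (((Dual.T Z).obj c).obj b)).obj a :=
  Dual.α a b c ≪≫ ((Dual.T Z).obj a).mapIso (Dual.σ b c) ≪≫ Dual.σ _ _

theorem main {Y : Scheme.{u}} (p : Z ⟶ X) (q : Z ⟶ Y) (P : CochainComplex Z.Modules ℤ)
    [DCoh.HasLpull p] [DCoh.HasLpull q] [DCoh.HasLTensorCx P]
    [DCoh.HasRpush p] [DCoh.HasRpush q] [DCoh.HasRΓ X] [DCoh.HasRΓ Y]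
    (E : CochainComplex X.Modules ℤ) (hE : DCoh.IsPerfect (DCoh.toD X E)) [DCoh.HasLTensorCx E]
    (F : CochainComplex Y.Modules ℤ) (hF : DCoh.IsPerfect (DCoh.toD Y F)) [DCoh.HasLTensorCx F] :
    Nonempty ((DCoh.RΓ X).obj ((DCoh.LTensorCx E).obj
        ((DCoh.Lpull q ⋙ DCoh.LTensorCx P ⋙ DCoh.Rpush p).obj (DCoh.toD Y F))) ≅
      (DCoh.RΓ Y).obj ((DCoh.LTensorCx F).obj
        ((DCoh.Lpull p ⋙ DCoh.LTensorCx P ⋙ DCoh.Rpush q).obj (DCoh.toD X E)))) := by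
  haveI : DCoh.HasRΓ Z := GammaAcyclic.hasRΓ Z
  obtain ⟨i⟩ := nonempty_gamma_proj p E hE ((DCoh.LTensorCx P).obj ((DCoh.Lpull q).obj (DCoh.toD Y F)))
  obtain ⟨j⟩ := nonempty_gamma_proj q F hF ((DCoh.LTensorCx P).obj ((DCoh.Lpull p).obj (DCoh.toD X E)))
  refine ⟨i ≪≫ (DCoh.RΓ Z).mapIso ?_ ≪≫ j.symm⟩
  exact ((Dual.T Z).mapIso ((Dual.ltensorCxIsoT P).symm.app _)).app _ ≪≫ swap₃ _ _ _ ≪≫
    ((Dual.T Z).mapIso ((Dual.ltensorCxIsoT P).app _)).app _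

end Groth.Agent.H16Derived.FMKSymm
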